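import Groth.Agent.EGA43.CMChart.Field
import Groth.Agent.EGA43.DimFormula.Charts
import Groth.Agent.EGA43.Cons.FibFlatMor
import Groth.Agent.EGA43.Cons.FibreCritScheme
import Groth.Agent.FlatMorDim.LocalDim
import Groth.Agent.EGA43.FiniteCrit.NormalBase
import Mathlib.RingTheory.RegularLocalRing.Polynomial

/-!
# Cohen–Macaulay morphisms are locally flat quasi-finite over affine spaces (EGA IV 15.4.2)
-/

set_option autoImplicit false
set_option backward.isDefEq.respectTransparency false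
set_option linter.style.haveILetI false

universe u

open CategoryTheory CategoryTheory.Limits AlgebraicGeometry TopologicalSpace IsLocalRing

namespace Groth.Agent.EGA43.CMChart

open Groth.Agent FlatMorWeight DimFormula

variable {X Y : Scheme.{u}}

theorem trdAt_fiber (f : X ⟶ Y) (y : Y) (w : ↥(f.fiber y)) :
    trdAt (f.fiberToSpecResidueField y) w = trdAt f (f.fiberι y w) := by
  unfold trdAt
  rw [← Chevalley.trdegHom_residueFieldMap_comp (f.fiberι y) f w,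
    show f.fiberι y ≫ f = f.fiberToSpecResidueField y ≫ Y.fromSpecResidueField y from pullback.condition,
    Scheme.residueFieldMap_comp, CommRingCat.hom_comp]
  haveI := DimLib.isIso_residueFieldMap_of_isPreimmersion (Y.fromSpecResidueField y)
    (f.fiberToSpecResidueField y w)
  exact (FibDepth.trdegHom_ringEquiv_comp
    (asIso ((Y.fromSpecResidueField y).residueFieldMap
      (f.fiberToSpecResidueField y w))).commRingCatIsoToRingEquiv _).symm

/-- Dimension of the local rings of fibres. -/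
theorem dim_fibre_stalk (f : X ⟶ Y) [LocallyOfFiniteType f] (y : Y) (w : ↥(f.fiber y)) (n : ℕ)
    (hle : ∀ ξ, ξ ⤳ f.fiberι y w → f ξ = y → trdAt f ξ ≤ n)
    (hge : ∃ ξ, ξ ⤳ f.fiberι y w ∧ f ξ = y ∧ n ≤ trdAt f ξ) :
    trdAt f (f.fiberι y w) ≤ n ∧
      ringKrullDim ((f.fiber y).presheaf.stalk w) = ((n - trdAt f (f.fiberι y w) : ℕ) : WithBot ℕ∞) := by
  haveI : LocallyOfFiniteType (f.fiberToSpecResidueField y) :=
    inferInstanceAs (LocallyOfFiniteType (pullback.snd f (Y.fromSpecResidueField y)))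
  rw [← trdAt_fiber f y w]
  refine dim_stalk_eq (f.fiberToSpecResidueField y) w n (fun ξ _ hξ => ?_) ?_
  · rw [trdAt_fiber]
    exact hle _ (hξ.map (f.fiberι y).continuous) ((f.range_fiberι y).le ⟨ξ, rfl⟩)
  · obtain ⟨ξ, hξ, hξy, hn⟩ := hge
    obtain ⟨ξ', rfl⟩ : ξ ∈ Set.range (f.fiberι y) := by rw [f.range_fiberι]; exact hξy
    exact ⟨ξ', (f.fiberι y).isEmbedding.isInducing.specializes_iff.1 hξ, hn.trans_eq (trdAt_fiber f y ξ').symm⟩

theorem exists_fibre_stalk_equiv (f : X ⟶ Y) (x : X) :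
    Nonempty ((↥(X.presheaf.stalk x) ⧸ (maximalIdeal (Y.presheaf.stalk (f x))).map (f.stalkMap x).hom) ≃+*
      (f.fiber (f x)).presheaf.stalk (f.asFiber x)) := by
  suffices h : ∀ w : ↥(f.fiber (f x)), Nonempty
      ((↥(X.presheaf.stalk (f.fiberι _ w)) ⧸
        (maximalIdeal (Y.presheaf.stalk (f (f.fiberι _ w)))).map (f.stalkMap (f.fiberι _ w)).hom) ≃+*
      (f.fiber (f x)).presheaf.stalk w) by
    have : ∀ a : X, a = x → Nonempty
      ((↥(X.presheaf.stalk a) ⧸ (maximalIdeal (Y.presheaf.stalk (f a))).map (f.stalkMap a).hom) ≃+*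
        (f.fiber (f x)).presheaf.stalk (f.asFiber x)) → Nonempty
      ((↥(X.presheaf.stalk x) ⧸ (maximalIdeal (Y.presheaf.stalk (f x))).map (f.stalkMap x).hom) ≃+*
        (f.fiber (f x)).presheaf.stalk (f.asFiber x)) := by rintro a rfl h; exact h
    exact this _ (f.fiberι_asFiber x) (h (f.asFiber x))
  intro w
  obtain ⟨hs, hker⟩ := Props12.stalkMap_fiberι f (f x) w
  exact ⟨(Ideal.quotEquivOfEq hker.symm).trans (RingHom.quotientKerEquivOfSurjective hs)⟩

theorem isCMAt_comp_iff {U : Scheme.{u}} (j : U ⟶ X) [IsOpenImmersion j] (f : X ⟶ Y) (u : U) :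
    MoreMor.IsCMAt (j ≫ f) u ↔ MoreMor.IsCMAt f (j u) := by
  unfold MoreMor.IsCMAt
  obtain ⟨e₁⟩ := exists_fibre_stalk_equiv (j ≫ f) u
  obtain ⟨e₂⟩ := exists_fibre_stalk_equiv f (j u)
  let e := (asIso (j.stalkMap u)).commRingCatIsoToRingEquiv
  have hmap : ((j ≫ f).stalkMap u).hom = e.toRingHom.comp (f.stalkMap (j u)).hom := by
    rw [Scheme.Hom.stalkMap_comp, CommRingCat.hom_comp]; rfl
  have hflat : ((j ≫ f).stalkMap u).hom.Flat ↔ (f.stalkMap (j u)).hom.Flat := by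
    constructor
    · intro h
      have h2 : (f.stalkMap (j u)).hom = e.symm.toRingHom.comp ((j ≫ f).stalkMap u).hom := by
        rw [hmap]; ext a; exact (e.symm_apply_apply _).symm
      rw [h2]
      exact h.comp (RingHom.Flat.of_bijective e.symm.bijective)
    · intro h
      rw [hmap]
      exact h.comp (RingHom.Flat.of_bijective e.bijective)
  let q := Ideal.quotientEquiv ((maximalIdeal (Y.presheaf.stalk (f (j u)))).map (f.stalkMap (j u)).hom)
    ((maximalIdeal (Y.presheaf.stalk (f (j u)))).map ((j ≫ f).stalkMap u).hom) e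
    (by rw [hmap, ← Ideal.map_map]; rfl)
  refine and_congr hflat ⟨fun h => ?_, fun h => ?_⟩
  · haveI := h
    exact CAlgH3.isCohenMacaulayLocalRing_of_ringEquiv ((e₁.symm.trans q.symm).trans e₂)
  · haveI := h
    exact CAlgH3.isCohenMacaulayLocalRing_of_ringEquiv ((e₂.symm.trans q).trans e₁)

theorem flat_quotient {A : Type u} [CommRing A] (I : Ideal A) (M : Type u) [AddCommGroup M]
    [Module A M] [Module.Flat A M] : Module.Flat (A ⧸ I) (M ⧸ I • (⊤ : Submodule A M)) :=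
  Module.Flat.of_linearEquiv (LinearEquiv.extendScalarsOfSurjective Ideal.Quotient.mk_surjective
    (TensorProduct.quotTensorEquivQuotSMul M I)).symm

theorem isRegularLocalRing_stalk_of_openImmersion {T : Type u} [CommRing T] [IsRegularRing T]
    {W : Scheme.{u}} (ψ : W ⟶ Spec (CommRingCat.of T)) [IsOpenImmersion ψ] (a : W) :
    IsRegularLocalRing (W.presheaf.stalk a) :=
  haveI : IsRegularLocalRing ((Spec (CommRingCat.of T)).presheaf.stalk (ψ a)) :=
    IsRegularLocalRing.of_ringEquiv (StructureSheaf.stalkIso T (ψ a)).toRingEquiv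
  IsRegularLocalRing.of_ringEquiv (asIso (ψ.stalkMap a)).commRingCatIsoToRingEquiv

theorem isRegular_fibre_affineSpace (n : ℕ) (y : Y)
    (a : ↥((𝔸(ULift.{u} (Fin n); Y) ↘ Y).fiber y)) :
    IsRegularLocalRing (((𝔸(ULift.{u} (Fin n); Y) ↘ Y).fiber y).presheaf.stalk a) := by
  let κ := Y.residueField y
  let e := (AffineSpace.isPullback_map (n := ULift.{u} (Fin n)) (Y.fromSpecResidueField y)).isoPullback
  let ψ : (𝔸(ULift.{u} (Fin n); Y) ↘ Y).fiber y ⟶
      Spec (CommRingCat.of (MvPolynomial (ULift.{u} (Fin n)) κ)) :=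
    e.inv ≫ (AffineSpace.SpecIso (ULift.{u} (Fin n)) κ).hom
  exact isRegularLocalRing_stalk_of_openImmersion ψ a

variable {A : Scheme.{u}}

theorem locallyQuasiFinite_fibMap {U : Scheme.{u}} (g : U ⟶ A) [LocallyQuasiFinite g] [LocallyOfFiniteType g]
    (π : A ⟶ Y) (y : Y) :
    LocallyQuasiFinite (Cons.fibMap g π y) ∧ LocallyOfFiniteType (Cons.fibMap g π y) := by
  have sq : IsPullback ((g ≫ π).fiberι y) (Cons.fibMap g π y) g (π.fiberι y) := by
    refine IsPullback.of_bot ?_ (Cons.fibMap_fiberι g π y).symm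
      (IsPullback.of_hasPullback π (Y.fromSpecResidueField y))
    rw [pullback.lift_snd]
    exact IsPullback.of_hasPullback _ _
  exact ⟨MorphismProperty.of_isPullback sq inferInstance, MorphismProperty.of_isPullback sq inferInstance⟩

/-- EGA IV 15.4.2, b) ⇒ a). -/
theorem isCMAt_of_flat_qf (n : ℕ) {U : Scheme.{u}} (g : U ⟶ 𝔸(ULift.{u} (Fin n); Y))
    [LocallyQuasiFinite g] [LocallyOfFiniteType g] (x : U) (h : (g.stalkMap x).hom.Flat) :
    MoreMor.IsCMAt (g ≫ (𝔸(ULift.{u} (Fin n); Y) ↘ Y)) x := by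
  let π := 𝔸(ULift.{u} (Fin n); Y) ↘ Y
  haveI := FiniteCrit.flat_affineSpace_over (ULift.{u} (Fin n)) Y
  let y := (g ≫ π) x
  let z := (g ≫ π).asFiber x
  obtain ⟨_, _⟩ := locallyQuasiFinite_fibMap g π y
  refine ⟨?_, ?_⟩
  · rw [Scheme.Hom.stalkMap_comp, CommRingCat.hom_comp]
    exact RingHom.Flat.comp (Flat.stalkMap π (g x)) h
  haveI : LocallyOfFiniteType (π.fiberToSpecResidueField y) :=
    inferInstanceAs (LocallyOfFiniteType (pullback.snd π (Y.fromSpecResidueField y)))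
  haveI : IsLocallyNoetherian (π.fiber y) :=
    LocallyOfFiniteType.isLocallyNoetherian (π.fiberToSpecResidueField y)
  haveI := isRegular_fibre_affineSpace n y (Cons.fibMap g π y z)
  refine cm_of_flat (Cons.fibMap g π y) z ((Cons.flat_stalkMap_fibMap_iff g π y z).2 ?_)
  have hz : (g ≫ π).fiberι y z = x := (g ≫ π).fiberι_asFiber x
  rw [hz]
  unfold Cons.IsFibFlatMorAt
  let _ := (g.stalkMap x).hom.toAlgebra
  haveI : Module.Flat (↥((𝔸(ULift.{u} (Fin n); Y)).presheaf.stalk (g x))) (U.presheaf.stalk x) := h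
  exact flat_quotient ((maximalIdeal (Y.presheaf.stalk (π (g x)))).map (π.stalkMap (g x)).hom)
    (U.presheaf.stalk x)

/-- EGA IV 15.4.2, a) ⇒ b), given the quasi-finite map. -/
theorem flat_of_isCMAt (n : ℕ) {U : Scheme.{u}} (g : U ⟶ 𝔸(ULift.{u} (Fin n); Y))
    [LocallyQuasiFinite g] [LocallyOfFinitePresentation (g ≫ (𝔸(ULift.{u} (Fin n); Y) ↘ Y))]
    [LocallyOfFiniteType g] (x : U)
    (h : MoreMor.IsCMAt (g ≫ (𝔸(ULift.{u} (Fin n); Y) ↘ Y)) x)
    (hge : ∃ ξ, ξ ⤳ x ∧ (g ≫ (𝔸(ULift.{u} (Fin n); Y) ↘ Y)) ξ = (g ≫ (𝔸(ULift.{u} (Fin n); Y) ↘ Y)) x ∧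
      n ≤ trdAt (g ≫ (𝔸(ULift.{u} (Fin n); Y) ↘ Y)) ξ) :
    (g.stalkMap x).hom.Flat := by
  let π := 𝔸(ULift.{u} (Fin n); Y) ↘ Y
  let y := (g ≫ π) x
  let z := (g ≫ π).asFiber x
  obtain ⟨_, _⟩ := locallyQuasiFinite_fibMap g π y
  have hz : (g ≫ π).fiberι y z = x := (g ≫ π).fiberι_asFiber x
  haveI : LocallyOfFiniteType (π.fiberToSpecResidueField y) :=
    inferInstanceAs (LocallyOfFiniteType (pullback.snd π (Y.fromSpecResidueField y)))
  haveI : IsLocallyNoetherian (π.fiber y) :=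
    LocallyOfFiniteType.isLocallyNoetherian (π.fiberToSpecResidueField y)
  let w := Cons.fibMap g π y z
  haveI := isRegular_fibre_affineSpace n y w
  have hw : π.fiberι y w = g x := by
    rw [← Scheme.Hom.comp_apply, Cons.fibMap_fiberι, Scheme.Hom.comp_apply, hz]
  have htrd : ∀ a, trdAt (g ≫ π) a = trdAt π (g a) := fun a => trdAt_comp_locallyQuasiFinite g π a
  obtain ⟨-, hX⟩ := dim_fibre_stalk (g ≫ π) y z n (fun ξ _ _ => (htrd ξ).trans_le (trdAt_affineSpace_le n _))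
    (by rw [hz]; exact hge)
  obtain ⟨-, hA⟩ := dim_fibre_stalk π y w n (fun ξ _ _ => trdAt_affineSpace_le n ξ) (by
    obtain ⟨ξ, hξ, hξy, hn⟩ := hge
    exact ⟨g ξ, hw ▸ hξ.map g.continuous, hξy, hn.trans_eq (htrd ξ)⟩)
  have hflat := flat_of_cm (Cons.fibMap g π y) z h.2 (by
    rw [hX, hA, hz, hw, htrd])
  have := (Cons.flat_stalkMap_fibMap_iff g π y z).1 hflat
  rw [hz] at this
  exact (Cons.flat_stalkMap_of_isFibFlatMorAt g π x h.1 this).1

/-- Near every point there is a quasi-finite map to affine space of the dimension of its fibre. -/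
theorem exists_qf_toAffineSpace (f : X ⟶ Y) [LocallyOfFiniteType f] (x : X) :
    ∃ (n : ℕ) (U : X.Opens) (_ : x ∈ U) (g : (U : Scheme.{u}) ⟶ 𝔸(ULift.{u} (Fin n); Y)),
      g ≫ (𝔸(ULift.{u} (Fin n); Y) ↘ Y) = U.ι ≫ f ∧ LocallyQuasiFinite g ∧ LocallyOfFiniteType g ∧
      ∃ ξ, ξ ⤳ x ∧ f ξ = f x ∧ n ≤ trdAt f ξ := by
  obtain ⟨z, hzx, hzf, -, hn⟩ := Chevalley.exists_maximal_fibreDimAt f x
  let n := trdAt f z
  let U₀ : X.Opens := ⟨_, FlatMorDim.isOpen_fibreDimAt_le f n⟩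
  have hxU₀ : x ∈ U₀ := hn.le
  obtain ⟨V, hV, hxV, -⟩ := exists_isAffineOpen_mem_and_subset (x := f x) (U := ⊤) (Set.mem_univ _)
  obtain ⟨U, hU, hxU, hUle⟩ :=
    exists_isAffineOpen_mem_and_subset (x := x) (U := (f ⁻¹ᵁ V) ⊓ U₀) ⟨hxV, hxU₀⟩
  have e' : U ≤ f ⁻¹ᵁ V := fun a ha => (hUle ha).1
  algebraize [(f.appLE V U e').hom]
  haveI : Algebra.FiniteType Γ(Y, V) Γ(X, U) := f.finiteType_appLE hV hU e'
  obtain ⟨s, r, ψ, hse, hr, hcomp, hft, hqf⟩ := exists_qf_algHom (A := Γ(Y, V))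
    (hU.primeIdealOf ⟨x, hxU⟩) n fun q' hq' => by
      have hw : hU.fromSpec q' ∈ U := hU.range_fromSpec.le ⟨q', rfl⟩
      have hq : hU.primeIdealOf ⟨_, hw⟩ = q' :=
        hU.fromSpec.isOpenEmbedding.injective (hU.fromSpec_primeIdealOf ⟨_, hw⟩)
      rw [← hq, ← FibDepth.trdegHom_residueFieldMap f hV hU e' hw]
      exact Chevalley.trdegHom_le_fibreDimAt f specializes_rfl n (hUle hw).2
  let P := CommRingCat.of (MvPolynomial (ULift.{u} (Fin s)) Γ(Y, V))
  let B := CommRingCat.of (Localization.Away r)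
  haveI : IsOpenImmersion (AffineSpace.map (ULift.{u} (Fin s)) hV.fromSpec) :=
    MorphismProperty.of_isPullback (AffineSpace.isPullback_map hV.fromSpec).flip inferInstance
  let j : Spec P ⟶ 𝔸(ULift.{u} (Fin s); Y) :=
    (AffineSpace.SpecIso (ULift.{u} (Fin s)) Γ(Y, V)).inv ≫ AffineSpace.map _ hV.fromSpec
  haveI : LocallyQuasiFinite (Spec.map (CommRingCat.ofHom ψ : P ⟶ B)) :=
    (HasRingHomProperty.Spec_iff (P := @LocallyQuasiFinite)).2 hqf
  haveI : LocallyOfFiniteType (Spec.map (CommRingCat.ofHom ψ : P ⟶ B)) :=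
    (HasRingHomProperty.Spec_iff (P := @LocallyOfFiniteType)).2 hft
  let ρ : Γ(X, U) ⟶ B := CommRingCat.ofHom (algebraMap Γ(X, U) (Localization.Away r))
  haveI : IsOpenImmersion (Spec.map ρ) := IsOpenImmersion.of_isLocalization r
  let hh : Spec B ⟶ X := Spec.map ρ ≫ hU.fromSpec
  let W := hh.opensRange
  let g₁ : Spec B ⟶ 𝔸(ULift.{u} (Fin s); Y) := Spec.map (CommRingCat.ofHom ψ : P ⟶ B) ≫ j
  let g : (W : Scheme.{u}) ⟶ 𝔸(ULift.{u} (Fin s); Y) := hh.isoOpensRange.inv ≫ g₁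
  have hfac : g₁ ≫ (𝔸(ULift.{u} (Fin s); Y) ↘ Y) = hh ≫ f := by
    simp only [g₁, j, hh, Category.assoc, AffineSpace.map_over, AffineSpace.SpecIso_inv_over_assoc]
    rw [← IsAffineOpen.SpecMap_appLE_fromSpec f hV hU e', ← Category.assoc, ← Category.assoc,
      ← Spec.map_comp, ← Spec.map_comp]
    congr 2
    refine CommRingCat.hom_ext ?_
    show ψ.comp MvPolynomial.C = (algebraMap Γ(X, U) (Localization.Away r)).comp (f.appLE V U e').hom
    rw [hcomp]
    exact IsScalarTower.algebraMap_eq Γ(Y, V) Γ(X, U) (Localization.Away r)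
  have hgf : g ≫ (𝔸(ULift.{u} (Fin s); Y) ↘ Y) = W.ι ≫ f := by
    simp only [g, Category.assoc, hfac]
    rw [← Category.assoc, Scheme.Hom.isoOpensRange_inv_comp]
  have hxW : x ∈ W := by
    obtain ⟨q, hq⟩ : hU.primeIdealOf ⟨x, hxU⟩ ∈
        Set.range (PrimeSpectrum.comap (algebraMap Γ(X, U) (Localization.Away r))) := by
      rw [PrimeSpectrum.localization_away_comap_range (Localization.Away r) r]; exact hr
    refine ⟨q, ?_⟩
    show hU.fromSpec (PrimeSpectrum.comap (algebraMap Γ(X, U) (Localization.Away r)) q) = x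
    rw [hq, hU.fromSpec_primeIdealOf]
  exact ⟨s, W, hxW, g, hgf, inferInstance, inferInstance, z, hzx, hzf, hse⟩

theorem isCMAt_congr {Z : Scheme.{u}} {f₁ f₂ : Z ⟶ Y} (h : f₁ = f₂) (z : Z) :
    MoreMor.IsCMAt f₁ z ↔ MoreMor.IsCMAt f₂ z := by subst h; rfl

theorem trdAt_congr {Z : Scheme.{u}} {f₁ f₂ : Z ⟶ Y} (h : f₁ = f₂) (z : Z) :
    trdAt f₁ z = trdAt f₂ z := by subst h; rfl

theorem trdAt_openι (f : X ⟶ Y) (U : X.Opens) (u : U) : trdAt (U.ι ≫ f) u = trdAt f u.1 :=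
  Chevalley.trdegHom_residueFieldMap_comp U.ι f u

theorem isCMAt_iff_exists (f : X ⟶ Y) [LocallyOfFinitePresentation f] (x : X) :
    MoreMor.IsCMAt f x ↔ ∃ (n : ℕ) (U : X.Opens) (hx : x ∈ U) (g : (U : Scheme.{u}) ⟶ 𝔸(ULift.{u} (Fin n); Y)),
      g ≫ (𝔸(ULift.{u} (Fin n); Y) ↘ Y) = U.ι ≫ f ∧ LocallyQuasiFinite g ∧ (g.stalkMap ⟨x, hx⟩).hom.Flat := by
  constructor
  · intro h
    obtain ⟨n, U, hx, g, hg, _, _, ξ, hξ, hξf, hn⟩ := exists_qf_toAffineSpace f x
    refine ⟨n, U, hx, g, hg, inferInstance, ?_⟩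
    haveI : LocallyOfFinitePresentation (g ≫ (𝔸(ULift.{u} (Fin n); Y) ↘ Y)) := by rw [hg]; infer_instance
    refine flat_of_isCMAt n g ⟨x, hx⟩ ?_ ?_
    · exact (isCMAt_congr hg ⟨x, hx⟩).2 ((isCMAt_comp_iff U.ι f ⟨x, hx⟩).2 h)
    · refine ⟨⟨ξ, hξ.mem_open U.isOpen hx⟩, Topology.IsInducing.subtypeVal.specializes_iff.1 hξ, ?_, ?_⟩
      · rw [hg]; exact hξf
      · exact hn.trans_eq ((trdAt_congr hg ⟨ξ, hξ.mem_open U.isOpen hx⟩).trans
          (trdAt_openι f U ⟨ξ, hξ.mem_open U.isOpen hx⟩)).symm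
  · rintro ⟨n, U, hx, g, hg, _, hflat⟩
    haveI : LocallyOfFiniteType (g ≫ (𝔸(ULift.{u} (Fin n); Y) ↘ Y)) := by rw [hg]; infer_instance
    haveI : LocallyOfFiniteType g := locallyOfFiniteType_of_comp g (𝔸(ULift.{u} (Fin n); Y) ↘ Y)
    have h1 := isCMAt_of_flat_qf n g ⟨x, hx⟩ hflat
    exact (isCMAt_comp_iff U.ι f ⟨x, hx⟩).1 ((isCMAt_congr hg ⟨x, hx⟩).1 h1)

theorem isMaximalPt_of_flat_stalkMap {Z : Scheme.{u}} (g : X ⟶ Z) {x ξ : X}
    (h : (g.stalkMap x).hom.Flat) (hξ : IsMaximalPt ξ) (hξx : ξ ⤳ x) : IsMaximalPt (g ξ) := by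
  haveI : Flat (Spec.map (g.stalkMap x)) := (HasRingHomProperty.Spec_iff (P := @Flat)).2 h
  obtain ⟨P, rfl⟩ : ξ ∈ Set.range (X.fromSpecStalk x) := by
    rw [Scheme.range_fromSpecStalk]; exact hξx
  have he : g (X.fromSpecStalk x P) = Z.fromSpecStalk (g x) (Spec.map (g.stalkMap x) P) := by
    rw [← Scheme.Hom.comp_apply, ← Scheme.Hom.comp_apply, Scheme.SpecMap_stalkMap_fromSpecStalk]
  intro v hv
  obtain ⟨Q, rfl⟩ : v ∈ Set.range (Z.fromSpecStalk (g x)) := by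
    rw [Scheme.range_fromSpecStalk]; exact hv.trans (hξx.map g.continuous)
  rw [he] at hv
  obtain ⟨P', hP', rfl⟩ := Flat.generalizingMap (Spec.map (g.stalkMap x))
    ((Z.fromSpecStalk (g x)).isEmbedding.isInducing.specializes_iff.1 hv)
  rw [← hξ _ (hP'.map (X.fromSpecStalk x).continuous), ← Scheme.Hom.comp_apply,
    ← Scheme.Hom.comp_apply, Scheme.SpecMap_stalkMap_fromSpecStalk]

/-- EGA IV 15.4.3: flat with Cohen–Macaulay fibre implies equidimensional. -/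
theorem isEquidimAt_of_isCMAt [IsLocallyNoetherian Y] (f : X ⟶ Y) [LocallyOfFiniteType f] (x : X)
    (h : MoreMor.IsCMAt f x) : EGA43.IsEquidimAt f x := by
  haveI : LocallyOfFinitePresentation f := inferInstance
  obtain ⟨n, U, hx, g, hg, _, hflat⟩ := (isCMAt_iff_exists f x).1 h
  let π := 𝔸(ULift.{u} (Fin n); Y) ↘ Y
  have htrd : ∀ w : U, trdAt f w.1 = trdAt π (g w) := fun w => by
    rw [← trdAt_comp_locallyQuasiFinite g π w, hg]
    exact (Chevalley.trdegHom_residueFieldMap_comp U.ι f w).symm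
  refine isEquidimAt_of_forall f x fun ξ hξ hξx => ?_
  let ξ' : U := ⟨ξ, hξx.mem_open U.isOpen hx⟩
  obtain ⟨h1, h2⟩ := (isMaximalPt_affineSpace_iff n (g ξ')).1 (isMaximalPt_of_flat_stalkMap g hflat
    ((Chevalley.isMaximalPt_coe_iff ξ').2 hξ) (Topology.IsInducing.subtypeVal.specializes_iff.1 hξx :
      ξ' ⤳ ⟨x, hx⟩))
  have hd : trdAt f ξ = n := (htrd ξ').trans h2
  obtain ⟨z, hzx, -, -, hz⟩ := exists_fibre_max f x
  have h3 : trdAt f z ≤ n := (htrd ⟨z, hzx.mem_open U.isOpen hx⟩).trans_le (trdAt_affineSpace_le n _)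
  have h4 := trdAt_le_of_specializes f hξx
  refine ⟨?_, by omega⟩
  have hval : f ξ = π (g ξ') := by
    show (U.ι ≫ f) ξ' = (g ≫ π) ξ'
    rw [hg]
  exact hval ▸ h1

end Groth.Agent.EGA43.CMChart
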