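import Groth.Agent.EGA43.DimFormula.Main
import Groth.Agent.CAlgH3.MiracleFlat
import Groth.Agent.CAlgH3.FlatDepth
import Groth.Agent.CAlgH3.CMPolynomial
import Groth.Agent.CAlgH3.RegularCore
import Groth.Agent.Props12.Stalks
import Groth.Agent.EGA41Lib.SupportDim

/-!
# Quasi-finite morphisms to regular schemes: flat iff Cohen–Macaulay
-/

set_option autoImplicit false
set_option backward.isDefEq.respectTransparency false
set_option linter.style.haveILetI false

universe u

open CategoryTheory CategoryTheory.Limits AlgebraicGeometry TopologicalSpace IsLocalRing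

namespace Groth.Agent.EGA43.CMChart

open Groth.Agent FlatMorWeight DimFormula

variable {k : Type u} [Field k]

/-- Dimension of a local ring of a scheme over a field. -/
theorem dim_stalk_eq {Z : Scheme.{u}} (p : Z ⟶ Spec (CommRingCat.of k)) [LocallyOfFiniteType p] (z : Z)
    (n : ℕ) (hle : ∀ ξ, IsMaximalPt ξ → ξ ⤳ z → trdAt p ξ ≤ n)
    (hge : ∃ ξ, ξ ⤳ z ∧ n ≤ trdAt p ξ) :
    trdAt p z ≤ n ∧ ringKrullDim (Z.presheaf.stalk z) = ((n - trdAt p z : ℕ) : WithBot ℕ∞) := by
  haveI : IsLocallyNoetherian Z := LocallyOfFiniteType.isLocallyNoetherian p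
  haveI : Subsingleton ↥(Spec (CommRingCat.of k)) := inferInstanceAs (Subsingleton (PrimeSpectrum k))
  let o := p z
  haveI : IsRegularLocalRing ((Spec (CommRingCat.of k)).presheaf.stalk o) :=
    IsRegularLocalRing.of_ringEquiv (StructureSheaf.stalkIso k o).toRingEquiv
  haveI := CAlgH3.isCohenMacaulayLocalRing_of_regular ((Spec (CommRingCat.of k)).presheaf.stalk o)
  haveI := CAlgH3.isCohenMacaulayRing_of_local (R := (Spec (CommRingCat.of k)).presheaf.stalk o)
  have hcat : CAlg.IsUniversallyCatenary ((Spec (CommRingCat.of k)).presheaf.stalk (p z)) :=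
    CAlgH3.isUniversallyCatenary_of_cm
  have key : ∀ ξ, ξ ⤳ z → cod ξ z + trdAt p z = trdAt p ξ := fun ξ hξ => by
    have h1 := eq_formula p hξ hcat
    rw [show p ξ = p z from Subsingleton.elim _ _, cod_self, zero_add] at h1
    exact h1
  have hmaxle : ∀ ξ, ξ ⤳ z → trdAt p ξ ≤ n := fun ξ hξ => by
    obtain ⟨η, hη, C, hC, hgen⟩ := exists_isMaximalPt_specializes ξ
    exact (Chevalley.trdegHom_le_of_specializes p hη (Subsingleton.elim _ _)).trans
      (hle η (isMaximalPt_of_isGenericPoint hC hgen) (hη.trans hξ))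
  refine ⟨hmaxle z specializes_rfl, ?_⟩
  rw [dimAt_eq]
  norm_cast
  obtain ⟨ξ, -, hξ, hcod⟩ := exists_cod_eq z
  obtain ⟨ξ', hξ', hn⟩ := hge
  have h1 := key ξ hξ
  have h2 := key ξ' hξ'
  have h3 := hmaxle ξ hξ
  have h4 := cod_le_dimAt hξ'
  omega

/-- The closed fibre of a quasi-finite local homomorphism has dimension zero. -/
theorem dim_quotient_zero {Z P : Scheme.{u}} [IsLocallyNoetherian P] (G : Z ⟶ P) [LocallyOfFiniteType G]
    [LocallyQuasiFinite G] (z : Z) :
    ringKrullDim (↥(Z.presheaf.stalk z) ⧸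
      (maximalIdeal (P.presheaf.stalk (G z))).map (G.stalkMap z).hom) = 0 := by
  suffices h : ∀ w : ↥(G.fiber (G z)),
      ringKrullDim (↥(Z.presheaf.stalk (G.fiberι _ w)) ⧸
        (maximalIdeal (P.presheaf.stalk (G (G.fiberι _ w)))).map (G.stalkMap (G.fiberι _ w)).hom) =
          ringKrullDim ((G.fiber (G z)).presheaf.stalk w) by
    have h1 := h (G.asFiber z)
    rw [fibDim_eq G z, (fibDim_eq_zero_iff G z).2 fun w hw he =>
      by_contra fun hne => hne ?_] at h1
    · have : ∀ a : Z, a = z → ringKrullDim (↥(Z.presheaf.stalk a) ⧸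
          (maximalIdeal (P.presheaf.stalk (G a))).map (G.stalkMap a).hom) = 0 →
          ringKrullDim (↥(Z.presheaf.stalk z) ⧸
            (maximalIdeal (P.presheaf.stalk (G z))).map (G.stalkMap z).hom) = 0 := by
        rintro a rfl h; exact h
      exact this _ (G.fiberι_asFiber z) (by simpa using h1)
    · haveI := (G.isDiscrete_preimage_singleton (G z)).to_subtype
      exact congrArg Subtype.val (specializes_iff_eq.1
        (Topology.IsInducing.subtypeVal.specializes_iff.1 hw :
          (⟨w, he⟩ : ↥(G ⁻¹' {G z})) ⤳ ⟨z, rfl⟩))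
  intro w
  obtain ⟨hs, hker⟩ := Props12.stalkMap_fiberι G (G z) w
  rw [← ringKrullDim_eq_of_ringEquiv ((Ideal.quotEquivOfEq hker.symm).trans
    (RingHom.quotientKerEquivOfSurjective hs))]

variable {Z P : Scheme.{u}} [IsLocallyNoetherian P] (G : Z ⟶ P) [LocallyOfFiniteType G]
  [LocallyQuasiFinite G] (z : Z)

theorem flat_of_cm [IsRegularLocalRing (P.presheaf.stalk (G z))]
    (hCM : LocCoh.IsCohenMacaulayLocalRing (Z.presheaf.stalk z))
    (hdim : ringKrullDim (Z.presheaf.stalk z) = ringKrullDim (P.presheaf.stalk (G z))) :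
    (G.stalkMap z).hom.Flat := by
  algebraize [(G.stalkMap z).hom]
  haveI : IsLocalHom (algebraMap (P.presheaf.stalk (G z)) (Z.presheaf.stalk z)) :=
    inferInstanceAs (IsLocalHom (G.stalkMap z).hom)
  refine CAlgH3.flat_of_dim_eq _ (P.presheaf.stalk (G z)) rfl (Z.presheaf.stalk z) ?_
  rw [RingHom.algebraMap_toAlgebra, dim_quotient_zero G z, add_zero, hdim]

theorem cm_of_flat [IsRegularLocalRing (P.presheaf.stalk (G z))] (hflat : (G.stalkMap z).hom.Flat) :
    LocCoh.IsCohenMacaulayLocalRing (Z.presheaf.stalk z) := by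
  haveI : IsLocallyNoetherian Z := LocallyOfFiniteType.isLocallyNoetherian G
  algebraize [(G.stalkMap z).hom]
  haveI : IsLocalHom (algebraMap (P.presheaf.stalk (G z)) (Z.presheaf.stalk z)) :=
    inferInstanceAs (IsLocalHom (G.stalkMap z).hom)
  haveI := CAlgH3.isCohenMacaulayLocalRing_of_regular (P.presheaf.stalk (G z))
  refine CAlgH3.isCohenMacaulayLocalRing_of_flat (A := P.presheaf.stalk (G z)) ?_
  refine (EGA41Lib.ringKrullDim_le_add_fibre (P.presheaf.stalk (G z)) (Z.presheaf.stalk z)).trans ?_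
  rw [RingHom.algebraMap_toAlgebra, dim_quotient_zero G z]
  exact add_le_add le_rfl (WithBot.coe_le_coe.2 zero_le)

end Groth.Agent.EGA43.CMChart
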