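import Groth.Agent.EGA43.CMChart.Main
import Groth.Agent.EGA43.DimFormula.Open
import Groth.Agent.EGA43.FlatDescent.SchemeOpen
import Groth.Agent.CommAlg6.FibreLocal
import Mathlib.AlgebraicGeometry.Morphisms.UniversallyOpen

/-!
# EGA IV 15.4.?: flatness criteria for Cohen–Macaulay schemes over regular bases
-/

set_option autoImplicit false
set_option backward.isDefEq.respectTransparency false
set_option linter.style.haveILetI false

universe u

open CategoryTheory CategoryTheory.Limits AlgebraicGeometry TopologicalSpace IsLocalRing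

namespace Groth.Agent.EGA43.CMChart

open Groth.Agent

theorem flat_and_cm_of_dim_eq {A B : Type u} [CommRing A] [CommRing B] [IsRegularLocalRing A]
    [LocCoh.IsCohenMacaulayLocalRing B] [Algebra A B] [IsLocalHom (algebraMap A B)]
    (h : ringKrullDim B = ringKrullDim A + ringKrullDim (B ⧸ (maximalIdeal A).map (algebraMap A B))) :
    Module.Flat A B ∧ LocCoh.IsCohenMacaulayLocalRing (B ⧸ (maximalIdeal A).map (algebraMap A B)) := by
  have hflat := CAlgH3.flat_of_dim_eq _ A rfl B h
  refine ⟨hflat, ?_⟩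
  haveI := hflat
  haveI := CAlgH3.isCohenMacaulayLocalRing_of_regular A
  haveI : IsLocalRing (A ⧸ (⊥ : Ideal A)) := DimFormula.isLocalRing_quotient _ bot_ne_top
  haveI : IsLocalRing (B ⧸ (⊥ : Ideal A).map (algebraMap A B)) :=
    DimFormula.isLocalRing_quotient _ (by rw [Ideal.map_bot]; exact bot_ne_top)
  haveI : IsLocalRing (B ⧸ (maximalIdeal A).map (algebraMap A B)) :=
    DimFormula.isLocalRing_quotient _ (ne_top_of_le_ne_top (maximalIdeal.isMaximal _).ne_top
      (((IsLocalRing.local_hom_TFAE (algebraMap A B)).out 0 2 :).mp inferInstance))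
  have h1 := CommAlg6.depth_quotient_map_eq (A := A) (B := B) ⊥
  have hA : LocCoh.IsCohenMacaulayLocalRing (A ⧸ (⊥ : Ideal A)) :=
    CAlgH3.isCohenMacaulayLocalRing_of_ringEquiv (RingEquiv.quotientBot A).symm
  let eB : B ≃+* B ⧸ (⊥ : Ideal A).map (algebraMap A B) :=
    (RingEquiv.quotientBot B).symm.trans (Ideal.quotEquivOfEq Ideal.map_bot.symm)
  have hB : LocCoh.IsCohenMacaulayLocalRing (B ⧸ (⊥ : Ideal A).map (algebraMap A B)) :=
    CAlgH3.isCohenMacaulayLocalRing_of_ringEquiv eB
  rw [CAlgH3.isCohenMacaulayLocalRing_iff_depth] at hA hB ⊢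
  rw [← ringKrullDim_eq_of_ringEquiv eB, h, h1, WithBot.coe_add, ← hA,
    ringKrullDim_eq_of_ringEquiv (RingEquiv.quotientBot A)] at hB
  rw [DimFormula.ringKrullDim_eq_natDim A] at hB
  refine le_antisymm ?_ ?_
  · generalize ringKrullDim (B ⧸ (maximalIdeal A).map (algebraMap A B)) = a at hB ⊢
    generalize LocCoh.depth (B ⧸ (maximalIdeal A).map (algebraMap A B))
      (B ⧸ (maximalIdeal A).map (algebraMap A B)) = b at hB ⊢
    induction a using WithBot.recBotCoe with
    | bot => exact bot_le
    | coe a =>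
      refine WithBot.coe_le_coe.2 (le_of_eq ?_)
      have : ((DimFormula.natDim A : ℕ) : ℕ∞) + a = (DimFormula.natDim A : ℕ∞) + b :=
        WithBot.coe_injective (by push_cast; exact hB)
      exact ENat.add_right_injective_of_ne_top (ENat.coe_ne_top _) this
  · generalize hd : ringKrullDim (B ⧸ (maximalIdeal A).map (algebraMap A B)) = a at hB ⊢
    generalize LocCoh.depth (B ⧸ (maximalIdeal A).map (algebraMap A B))
      (B ⧸ (maximalIdeal A).map (algebraMap A B)) = b at hB ⊢
    induction a using WithBot.recBotCoe with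
    | bot => exact absurd hd (ne_bot_of_le_ne_bot (by simp) ringKrullDim_nonneg_of_nontrivial)
    | coe a =>
      refine WithBot.coe_le_coe.2 (le_of_eq ?_)
      have : ((DimFormula.natDim A : ℕ) : ℕ∞) + a = (DimFormula.natDim A : ℕ∞) + b :=
        WithBot.coe_injective (by push_cast; exact hB)
      exact (ENat.add_right_injective_of_ne_top (ENat.coe_ne_top _) this).symm

theorem tfae {X Y : Scheme.{u}} [IsLocallyNoetherian Y] (f : X ⟶ Y)
    [LocallyOfFiniteType f] (x : X) (hreg : IsRegularLocalRing (Y.presheaf.stalk (f.base x)))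
    (hCM : LocCoh.IsCohenMacaulayLocalRing (X.presheaf.stalk x)) :
    List.TFAE [
      (f.stalkMap x).hom.Flat ∧ LocCoh.IsCohenMacaulayLocalRing ((f.fiber (f.base x)).presheaf.stalk (f.asFiber x)),
      (f.stalkMap x).hom.Flat,
      ∃ U : X.Opens, x ∈ U ∧ UniversallyOpen (U.ι ≫ f),
      (∀ z : ↥(f.fiber (f.base x)), f.asFiber x ∈ closure {z} →
          (∀ z' : ↥(f.fiber (f.base x)), z ∈ closure {z'} → z' = z) →
          EGA43.IsOpenAt f.base ((f.fiberι (f.base x)).base z)),
      ringKrullDim (X.presheaf.stalk x) =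
        ringKrullDim (Y.presheaf.stalk (f.base x)) + ringKrullDim ((f.fiber (f.base x)).presheaf.stalk (f.asFiber x)) ] := by
  haveI : IsLocallyNoetherian X := LocallyOfFiniteType.isLocallyNoetherian f
  haveI : LocallyOfFinitePresentation f := inferInstance
  tfae_have 1 → 2 := fun h => h.1
  tfae_have 2 → 3 := fun h => by
    let U : X.Opens := ⟨_, FlatDescent.isOpen_flat_stalkMap f⟩
    haveI : Flat (U.ι ≫ f) := Flat.of_stalkMap _ fun w => by
      rw [Scheme.Hom.stalkMap_comp, CommRingCat.hom_comp]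
      exact RingHom.Flat.comp w.2 (Flat.stalkMap U.ι w)
    exact ⟨U, h, inferInstance⟩
  tfae_have 3 → 4 := by
    rintro ⟨U, hxU, hU⟩ z hz _
    have hzU : f.fiberι _ z ∈ U := by
      have h1 := (specializes_iff_mem_closure.2 hz).map (f.fiberι _).continuous
      rw [f.fiberι_asFiber] at h1
      exact h1.mem_open U.isOpen hxU
    intro N hN
    have h2 := (U.ι ≫ f).isOpenMap.image_mem_nhds (x := ⟨_, hzU⟩)
      (U.ι.continuous.continuousAt.preimage_mem_nhds hN)
    refine Filter.mem_of_superset h2 ?_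
    rintro _ ⟨w, hw, rfl⟩
    exact ⟨w.1, hw, rfl⟩
  tfae_have 4 → 5 := fun h => by
    refine DimFormula.dimAt_eq_of_isOpenAt f x fun z hz hzf hmax => ?_
    obtain ⟨z', rfl⟩ : z ∈ Set.range (f.fiberι (f x)) := by rw [f.range_fiberι]; exact hzf
    have hz' : f.fiberι (f x) z' ⤳ f.fiberι (f x) (f.asFiber x) := by rw [f.fiberι_asFiber]; exact hz
    refine h z' (specializes_iff_mem_closure.1 ((f.fiberι _).isEmbedding.isInducing.specializes_iff.1 hz'))
      fun w hw => (f.fiberι _).isEmbedding.injective (hmax _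
        ((specializes_iff_mem_closure.2 hw).map (f.fiberι _).continuous) ?_)
    exact (f.range_fiberι _).le ⟨w, rfl⟩
  tfae_have 5 → 1 := fun h => by
    obtain ⟨e⟩ := exists_fibre_stalk_equiv f x
    haveI := hreg
    haveI := hCM
    algebraize [(f.stalkMap x).hom]
    haveI : IsLocalHom (algebraMap (Y.presheaf.stalk (f x)) (X.presheaf.stalk x)) :=
      inferInstanceAs (IsLocalHom (f.stalkMap x).hom)
    obtain ⟨h1, h2⟩ := flat_and_cm_of_dim_eq (A := Y.presheaf.stalk (f x)) (B := X.presheaf.stalk x)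
      (h.trans (congrArg (ringKrullDim (Y.presheaf.stalk (f x)) + ·) (ringKrullDim_eq_of_ringEquiv e).symm))
    haveI := h2
    exact ⟨h1, CAlgH3.isCohenMacaulayLocalRing_of_ringEquiv e⟩
  tfae_finish

end Groth.Agent.EGA43.CMChart
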